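import Mathlib

namespace Helper5.ArtLoc
open TensorProduct IsLocalRing Function

universe u v w

section Nak
variable {R : Type u} [CommRing R] {M : Type v} [AddCommGroup M] [Module R M]

lemma eq_top_of_sup_smul_top_eq_top {I : Ideal R} (hI : IsNilpotent I) (N : Submodule R M)
    (h : N ⊔ I • ⊤ = ⊤) : N = ⊤ := by
  obtain ⟨n, hn⟩ := hI
  have key : ∀ k, N ⊔ I ^ k • (⊤ : Submodule R M) = ⊤ := by
    intro k
    induction k with
    | zero => simp
    | succ k ih =>
      refine le_antisymm le_top ?_
      have h0 : (⊤ : Submodule R M) ≤ N ⊔ I • ⊤ := h.ge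
      refine h0.trans ?_
      apply sup_le le_sup_left
      calc I • (⊤ : Submodule R M) = I • (N ⊔ I ^ k • ⊤) := by rw [ih]
        _ = I • N ⊔ I • (I ^ k • ⊤) := Submodule.smul_sup _ _ _
        _ ≤ N ⊔ I ^ (k + 1) • ⊤ := by
          refine sup_le_sup Submodule.smul_le_right ?_
          rw [← Submodule.mul_smul, ← pow_succ']
  have := key n
  rw [hn] at this
  simpa using this

end Nak

section Local
variable {R : Type u} [CommRing R] [IsLocalRing R]
  {M : Type v} [AddCommGroup M] [Module R M]
  {P : Type*} [AddCommGroup P] [Module R P] {L : Type*} [AddCommGroup L] [Module R L]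

local notation "𝔪" => maximalIdeal R
local notation "k" => ResidueField R

lemma mem_smul_top_of_tmul_eq_zero (x : M) (h : (1 : k) ⊗ₜ[R] x = 0) : x ∈ 𝔪 • (⊤ : Submodule R M) := by
  rw [← LinearMap.ker_tensorProductMk]
  exact h

lemma tmul_eq_zero_of_mem_smul_top (x : M) (h : x ∈ 𝔪 • (⊤ : Submodule R M)) : (1 : k) ⊗ₜ[R] x = 0 := by
  rw [← LinearMap.ker_tensorProductMk] at h
  exact h

lemma exists_one_tmul (z : k ⊗[R] M) : ∃ x : M, z = (1 : k) ⊗ₜ[R] x := by
  obtain ⟨x, hx⟩ := TensorProduct.mk_surjective R M k Ideal.Quotient.mk_surjective z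
  exact ⟨x, hx.symm⟩

/-- Nakayama for a nilpotent maximal ideal: `k ⊗ h` surjective implies `h` surjective. -/
theorem surjective_of_lTensor_surjective (hm : IsNilpotent 𝔪) (h : P →ₗ[R] L)
    (hs : Surjective (h.lTensor k)) : Surjective h := by
  rw [← LinearMap.range_eq_top]
  apply eq_top_of_sup_smul_top_eq_top hm
  rw [eq_top_iff]
  intro y _
  obtain ⟨z, hz⟩ := hs ((1 : k) ⊗ₜ y)
  obtain ⟨p, rfl⟩ := exists_one_tmul z
  rw [LinearMap.lTensor_tmul] at hz
  have : y - h p ∈ 𝔪 • (⊤ : Submodule R L) := by
    apply mem_smul_top_of_tmul_eq_zero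
    rw [tmul_sub, hz, sub_self]
  have h2 : y = h p + (y - h p) := by abel
  rw [h2]
  exact Submodule.add_mem_sup (LinearMap.mem_range_self h p) this

theorem subsingleton_of_subsingleton_tensor (hm : IsNilpotent 𝔪)
    (h : Subsingleton (k ⊗[R] M)) : Subsingleton M := by
  have : (⊥ : Submodule R M) = ⊤ := by
    apply eq_top_of_sup_smul_top_eq_top hm
    rw [eq_top_iff]
    intro y _
    exact Submodule.mem_sup_right (mem_smul_top_of_tmul_eq_zero y (Subsingleton.elim _ _))
  refine subsingleton_of_forall_eq 0 fun a => ?_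
  have h1 : a ∈ (⊥ : Submodule R M) := this ▸ Submodule.mem_top
  simpa using h1

/-- Over a local ring with nilpotent maximal ideal, flat modules are free. -/
theorem free_of_flat (hm : IsNilpotent 𝔪) [Module.Flat R M] : Module.Free R M := by
  let w := Module.Free.chooseBasis k (k ⊗[R] M)
  choose v hv using fun i => exists_one_tmul (w i)
  have hli : LinearIndependent R v := by
    apply Module.IsLocalRing.linearIndependent_of_flat
    have : (TensorProduct.mk R k M 1 ∘ v) = w := by
      funext i; exact (hv i).symm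
    rw [this]
    exact w.linearIndependent
  have hsurj : Surjective (Finsupp.linearCombination R v) := by
    apply surjective_of_lTensor_surjective hm
    intro z
    refine ⟨(w.repr z).sum fun i c => c ⊗ₜ[R] Finsupp.single i (1 : R), ?_⟩
    conv_rhs => rw [← w.linearCombination_repr z, Finsupp.linearCombination_apply]
    rw [Finsupp.sum, Finsupp.sum, map_sum]
    refine Finset.sum_congr rfl fun i _ => ?_
    rw [LinearMap.lTensor_tmul, Finsupp.linearCombination_single, one_smul, hv i,
      TensorProduct.smul_tmul', smul_eq_mul, mul_one]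
  have hspan : ⊤ ≤ Submodule.span R (Set.range v) := by
    rw [← Finsupp.range_linearCombination, LinearMap.range_eq_top.mpr hsurj]
  exact Module.Free.of_basis (Module.Basis.mk hli hspan)

/-- Key lemma: if `N` is flat and `k ⊗ f` is injective then `f` has a retraction. -/
theorem exists_retraction_of_lTensor_injective (hm : IsNilpotent 𝔪)
    {N : Type*} [AddCommGroup N] [Module R N] [Module.Flat R N]
    (f : M →ₗ[R] N) (hf : Injective (f.lTensor k)) : ∃ r : N →ₗ[R] M, r ∘ₗ f = LinearMap.id := by
  have : Module.Free R N := free_of_flat hm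
  -- a `k`-linear retraction of `k ⊗ f`
  have hker : LinearMap.ker (f.baseChange k) = ⊥ := by
    rw [LinearMap.ker_eq_bot]
    have : (f.baseChange k : k ⊗[R] M → k ⊗[R] N) = f.lTensor k := LinearMap.baseChange_eq_ltensor f
    rw [this]; exact hf
  obtain ⟨ρ, hρ⟩ := LinearMap.exists_leftInverse_of_injective (f.baseChange k) hker
  obtain ⟨r₀, hr₀⟩ := Module.projective_lifting_property (TensorProduct.mk R k M 1)
    ((ρ.restrictScalars R) ∘ₗ (TensorProduct.mk R k N 1))
    (TensorProduct.mk_surjective R M k Ideal.Quotient.mk_surjective)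
  have he : ∀ x : M, (1 : k) ⊗ₜ[R] (r₀ (f x)) = (1 : k) ⊗ₜ[R] x := by
    intro x
    have h1 := congrArg (fun φ => φ (f x)) hr₀
    simp only [LinearMap.coe_comp, Function.comp_apply, TensorProduct.mk_apply,
      LinearMap.coe_restrictScalars] at h1
    rw [h1]
    have h2 := congrArg (fun φ => φ ((1 : k) ⊗ₜ[R] x)) hρ
    simpa using h2
  let δ : Module.End R M := r₀ ∘ₗ f - LinearMap.id
  have hδ : ∀ x, δ x ∈ 𝔪 • (⊤ : Submodule R M) := by
    intro x
    apply mem_smul_top_of_tmul_eq_zero
    simp only [δ, LinearMap.sub_apply, LinearMap.coe_comp, Function.comp_apply, LinearMap.id_apply,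
      tmul_sub, he, sub_self]
  have hpow : ∀ n : ℕ, ∀ x, (δ ^ n) x ∈ 𝔪 ^ n • (⊤ : Submodule R M) := by
    intro n
    induction n with
    | zero => intro x; simp
    | succ n ih =>
      intro x
      have h4 : (δ ^ (n + 1)) x = δ ((δ ^ n) x) := by rw [pow_succ', Module.End.mul_apply]
      rw [h4]
      have h3 : Submodule.map δ (𝔪 ^ n • (⊤ : Submodule R M)) ≤ 𝔪 ^ (n + 1) • ⊤ := by
        rw [Submodule.map_smul'']
        calc 𝔪 ^ n • Submodule.map δ ⊤ ≤ 𝔪 ^ n • (𝔪 • (⊤ : Submodule R M)) := by
              apply Submodule.smul_mono le_rfl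
              rintro _ ⟨y, -, rfl⟩
              exact hδ y
          _ = 𝔪 ^ (n + 1) • ⊤ := by rw [← Submodule.mul_smul, ← pow_succ]
      exact h3 ⟨_, ih x, rfl⟩
  have hnil : IsNilpotent δ := by
    obtain ⟨n, hn⟩ := hm
    refine ⟨n, ?_⟩
    ext x
    have := hpow n x
    rw [hn] at this
    simpa using this
  have hunit : IsUnit (r₀ ∘ₗ f : Module.End R M) := by
    have : (r₀ ∘ₗ f : Module.End R M) = δ + 1 := by
      simp only [δ]; rw [Module.End.one_eq_id]; abel
    rw [this]
    exact hnil.isUnit_add_one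
  obtain ⟨e', he'⟩ := hunit.exists_left_inv
  refine ⟨e' ∘ₗ r₀, ?_⟩
  rw [LinearMap.comp_assoc]
  exact he'

theorem injective_of_lTensor_injective (hm : IsNilpotent 𝔪)
    {N : Type*} [AddCommGroup N] [Module R N] [Module.Flat R N]
    (f : M →ₗ[R] N) (hf : Injective (f.lTensor k)) : Injective f := by
  obtain ⟨r, hr⟩ := exists_retraction_of_lTensor_injective hm f hf
  exact Function.LeftInverse.injective (g := r) fun x => congrArg (fun φ => φ x) hr

/-- If `P` is flat then `k ⊗ M → k ⊗ N` is injective for `0 → M → N → P → 0` exact. -/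
theorem lTensor_injective_of_flat_coker {N : Type*} [AddCommGroup N] [Module R N]
    [Module.Flat R P] (f : M →ₗ[R] N) (g : N →ₗ[R] P)
    (hf : Injective f) (hg : Surjective g) (hfg : Exact f g) : Injective (f.lTensor k) := by
  refine lTensor_injective_of_exact_of_exact_of_rTensor_injective (R := R)
    (f₁ := (𝔪).subtype) (f₂ := (𝔪).mkQ) (g₁ := f) (g₂ := g)
    (LinearMap.exact_subtype_mkQ 𝔪) (Submodule.mkQ_surjective _) hfg hg ?_ ?_
  · exact Module.Flat.rTensor_preserves_injective_linearMap _ Subtype.val_injective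
  · exact Module.Flat.lTensor_preserves_injective_linearMap _ hf

/-- A split injection into a flat module with cokernel `P` makes `P` flat. -/
theorem flat_coker_of_retraction {N : Type*} [AddCommGroup N] [Module R N] [Module.Flat R N]
    (f : M →ₗ[R] N) (g : N →ₗ[R] P) (hg : Surjective g) (hfg : Exact f g)
    (r : N →ₗ[R] M) (hr : r ∘ₗ f = LinearMap.id) : Module.Flat R P := by
  -- section of `g`
  have hle : LinearMap.ker g ≤ LinearMap.ker (LinearMap.id - f ∘ₗ r) := by
    intro y hy
    obtain ⟨x, rfl⟩ := (hfg y).mp hy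
    have : r (f x) = x := congrArg (fun φ => φ x) hr
    simp [this]
  let s : P →ₗ[R] N := ((LinearMap.ker g).liftQ (LinearMap.id - f ∘ₗ r) hle) ∘ₗ
    (LinearMap.quotKerEquivOfSurjective g hg).symm.toLinearMap
  have hs : g ∘ₗ s = LinearMap.id := by
    ext p
    obtain ⟨y, rfl⟩ := hg p
    have h1 : (LinearMap.quotKerEquivOfSurjective g hg).symm (g y) = Submodule.Quotient.mk y := by
      rw [LinearEquiv.symm_apply_eq]; rfl
    simp only [s, LinearMap.coe_comp, Function.comp_apply, LinearEquiv.coe_coe, h1,
      Submodule.liftQ_apply, LinearMap.sub_apply, LinearMap.id_apply, map_sub]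
    rw [hfg.apply_apply_eq_zero, sub_zero]
  exact Module.Flat.of_retract s g hs

end Local

section Artinian
variable (A : Type u) [CommRing A] [IsLocalRing A] [IsArtinianRing A]

lemma isNilpotent_maximalIdeal : IsNilpotent (maximalIdeal A) := by
  have := IsArtinianRing.isNilpotent_jacobson_bot (R := A)
  rwa [IsLocalRing.jacobson_eq_maximalIdeal ⊥ bot_ne_top] at this

theorem s15128 (P L : Type v) [AddCommGroup P] [Module A P] [AddCommGroup L] [Module A L]
    [Module.Flat A P] [Module.Flat A L] (h : P →ₗ[A] L) :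
    (Function.Injective (h.lTensor (IsLocalRing.ResidueField A)) → Function.Injective h) ∧
    (Function.Surjective (h.lTensor (IsLocalRing.ResidueField A)) → Function.Surjective h) :=
  ⟨injective_of_lTensor_injective (isNilpotent_maximalIdeal A) h,
    surjective_of_lTensor_surjective (isNilpotent_maximalIdeal A) h⟩

theorem s15129 (M N P : Type v) [AddCommGroup M] [Module A M] [AddCommGroup N] [Module A N]
    [AddCommGroup P] [Module A P] [Module.Flat A N] (f : M →ₗ[A] N) (g : N →ₗ[A] P)
    (hf : Function.Injective f) (hg : Function.Surjective g) (hfg : Function.Exact f g) :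
    (Function.Injective (f.lTensor (IsLocalRing.ResidueField A)) → Module.Flat A P) ∧
    (Module.Flat A P → Module.Flat A M ∧ Function.Injective (f.lTensor (IsLocalRing.ResidueField A))) := by
  constructor
  · intro h
    obtain ⟨r, hr⟩ := exists_retraction_of_lTensor_injective (isNilpotent_maximalIdeal A) f h
    exact flat_coker_of_retraction f g hg hfg r hr
  · intro hP
    have h := lTensor_injective_of_flat_coker f g hf hg hfg
    obtain ⟨r, hr⟩ := exists_retraction_of_lTensor_injective (isNilpotent_maximalIdeal A) f h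
    exact ⟨Module.Flat.of_retract f r hr, h⟩

theorem s15130 (P Q R M : Type v) [AddCommGroup P] [Module A P] [AddCommGroup Q] [Module A Q]
    [AddCommGroup R] [Module A R] [AddCommGroup M] [Module A M]
    [Module.Flat A Q] [Module.Flat A R]
    (f : P →ₗ[A] Q) (g : Q →ₗ[A] R) (h : R →ₗ[A] M)
    (hfg : g ∘ₗ f = 0) (hgh : Function.Exact g h) (hh : Function.Surjective h)
    (hred : Function.Exact (f.lTensor (IsLocalRing.ResidueField A)) (g.lTensor (IsLocalRing.ResidueField A))) :
    Module.Flat A M ∧ Function.Exact f g ∧ Module.Flat A (LinearMap.ker g) ∧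
      Function.Injective ((LinearMap.ker g).subtype.lTensor (IsLocalRing.ResidueField A)) := by
  let B : Submodule A R := LinearMap.range g
  let g' : Q →ₗ[A] B := g.rangeRestrict
  have hg' : Surjective g' := LinearMap.surjective_rangeRestrict g
  have hιg' : B.subtype ∘ₗ g' = g := by
    apply LinearMap.ext; intro x; rfl
  have hg'f : g' ∘ₗ f = 0 := by
    apply LinearMap.ext; intro x
    apply Subtype.ext
    have := congrArg (fun φ => φ x) hfg
    simpa [g'] using this
  have hBh : Function.Exact B.subtype h := by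
    intro y
    rw [hgh y]
    constructor
    · rintro ⟨q, rfl⟩; exact ⟨⟨g q, LinearMap.mem_range_self g q⟩, rfl⟩
    · rintro ⟨⟨_, ⟨q, rfl⟩⟩, rfl⟩; exact ⟨q, rfl⟩
  -- Step 1
  have h1 : Injective (B.subtype.lTensor (IsLocalRing.ResidueField A)) := by
    rw [injective_iff_map_eq_zero]
    intro z hz
    obtain ⟨y, rfl⟩ := LinearMap.lTensor_surjective (IsLocalRing.ResidueField A) hg' z
    rw [← LinearMap.comp_apply, ← LinearMap.lTensor_comp, hιg'] at hz
    obtain ⟨x, rfl⟩ := (hred y).mp hz
    rw [← LinearMap.comp_apply, ← LinearMap.lTensor_comp, hg'f, LinearMap.lTensor_zero,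
      LinearMap.zero_apply]
  -- Step 2
  have hM : Module.Flat A M := (s15129 A B R M B.subtype h Subtype.val_injective hh hBh).1 h1
  have hB : Module.Flat A B := ((s15129 A B R M B.subtype h Subtype.val_injective hh hBh).2 hM).1
  -- Step 3
  let Z : Submodule A Q := LinearMap.ker g
  have hZg' : Function.Exact Z.subtype g' := by
    intro y
    constructor
    · intro hy
      have : g y = 0 := by
        have := congrArg Subtype.val hy
        simpa [g'] using this
      exact ⟨⟨y, this⟩, rfl⟩
    · rintro ⟨⟨y, hy⟩, rfl⟩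
      apply Subtype.ext
      exact hy
  obtain ⟨hZ, h3⟩ := (s15129 A Z Q B Z.subtype g' Subtype.val_injective hg' hZg').2 hB
  -- Step 4
  let f' : P →ₗ[A] Z := f.codRestrict Z (fun x => by
    have := congrArg (fun φ => φ x) hfg
    simpa [Z] using this)
  have hιf' : Z.subtype ∘ₗ f' = f := LinearMap.subtype_comp_codRestrict _ _ _
  have hgZ : g ∘ₗ Z.subtype = 0 := by
    apply LinearMap.ext; rintro ⟨y, hy⟩; simpa [Z] using hy
  have h4 : Surjective (f'.lTensor (IsLocalRing.ResidueField A)) := by
    intro z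
    have hz : (g.lTensor (IsLocalRing.ResidueField A)) ((Z.subtype.lTensor (IsLocalRing.ResidueField A)) z) = 0 := by
      rw [← LinearMap.comp_apply, ← LinearMap.lTensor_comp, hgZ, LinearMap.lTensor_zero,
        LinearMap.zero_apply]
    obtain ⟨x, hx⟩ := (hred _).mp hz
    refine ⟨x, h3 ?_⟩
    rw [← LinearMap.comp_apply, ← LinearMap.lTensor_comp, hιf', hx]
  have h5 : Surjective f' := surjective_of_lTensor_surjective (isNilpotent_maximalIdeal A) f' h4
  refine ⟨hM, ?_, hZ, h3⟩
  intro y
  constructor
  · intro hy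
    obtain ⟨x, hx⟩ := h5 ⟨y, hy⟩
    exact ⟨x, by have := congrArg Subtype.val hx; simpa [f'] using this⟩
  · rintro ⟨x, rfl⟩
    exact congrArg (fun φ => φ x) hfg

end Artinian

end Helper5.ArtLoc
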