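import Groth.Agent.Lib.Helper5.ArtLoc.Basic

namespace Helper5.ArtLoc
open TensorProduct IsLocalRing Function

universe u v

section Chain
variable (A : Type u) [CommRing A] [IsLocalRing A] [IsArtinianRing A]
  (X : ℕ → Type v) [∀ j, AddCommGroup (X j)] [∀ j, Module A (X j)]
  (d : ∀ j, X j →ₗ[A] X (j + 1)) (hd : ∀ j, d (j + 1) ∘ₗ d j = 0)

local notation "k" => ResidueField A

include hd in
theorem chain_aux (m : ℕ) (hflat : ∀ i, i ≤ m + 1 → Module.Flat A (X (i + 1)))
    (hex : ∀ i, i ≤ m → Function.Exact ((d i).lTensor k) ((d (i + 1)).lTensor k)) :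
    Module.Flat A (X (m + 1 + 1) ⧸ LinearMap.range (d (m + 1))) ∧
    ∀ i, i ≤ m → (Module.Flat A (LinearMap.ker (d (i + 1))) ∧
      Function.Injective ((LinearMap.ker (d (i + 1))).subtype.lTensor k) ∧
      Function.Exact (d i) (d (i + 1))) := by
  have hQ : Module.Flat A (X (m + 1)) := hflat m (by omega)
  have hR : Module.Flat A (X (m + 1 + 1)) := hflat (m + 1) le_rfl
  have top := s15130 A (X m) (X (m + 1)) (X (m + 1 + 1)) (X (m + 1 + 1) ⧸ LinearMap.range (d (m + 1)))
    (d m) (d (m + 1)) (LinearMap.range (d (m + 1))).mkQ (hd m)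
    (LinearMap.exact_map_mkQ_range (d (m + 1))) (Submodule.mkQ_surjective _) (hex m le_rfl)
  refine ⟨top.1, ?_⟩
  -- descending induction
  have key : ∀ t, t ≤ m → (Module.Flat A (LinearMap.ker (d (m - t + 1))) ∧
      Function.Injective ((LinearMap.ker (d (m - t + 1))).subtype.lTensor k) ∧
      Function.Exact (d (m - t)) (d (m - t + 1))) := by
    intro t
    induction t with
    | zero => intro _; exact ⟨top.2.2.1, top.2.2.2, top.2.1⟩
    | succ t ih =>
      intro ht
      obtain ⟨hZ, hι, -⟩ := ih (by omega)
      obtain ⟨i, hi⟩ : ∃ i, m - (t + 1) = i := ⟨_, rfl⟩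
      have hi' : m - t = i + 1 := by omega
      rw [hi]
      rw [hi'] at hZ hι
      have hQ' : Module.Flat A (X (i + 1)) := hflat i (by omega)
      let Z : Submodule A (X (i + 1 + 1)) := LinearMap.ker (d (i + 1 + 1))
      let g : X (i + 1) →ₗ[A] Z := (d (i + 1)).codRestrict Z (fun x => by
        have := congrArg (fun φ => φ x) (hd (i + 1))
        simpa [Z] using this)
      have hιg : Z.subtype ∘ₗ g = d (i + 1) := LinearMap.subtype_comp_codRestrict _ _ _
      have hgf : g ∘ₗ d i = 0 := by
        apply LinearMap.ext; intro x; apply Subtype.ext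
        exact congrArg (fun φ => φ x) (hd i)
      have hred : Function.Exact ((d i).lTensor k) (g.lTensor k) := by
        intro y
        rw [← hex i (by omega) y]
        constructor
        · intro hy
          rw [← hιg, LinearMap.lTensor_comp, LinearMap.comp_apply, hy, map_zero]
        · intro hy
          apply hι
          rw [← LinearMap.comp_apply, ← LinearMap.lTensor_comp, hιg, hy, map_zero]
      have res := s15130 A (X i) (X (i + 1)) Z (Z ⧸ LinearMap.range g)
        (d i) g (LinearMap.range g).mkQ hgf
        (LinearMap.exact_map_mkQ_range g) (Submodule.mkQ_surjective _) hred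
      have hker : LinearMap.ker g = LinearMap.ker (d (i + 1)) := LinearMap.ker_codRestrict _ _ _
      obtain ⟨-, hexact, hZ', hι'⟩ := res
      rw [hker] at hZ' hι'
      refine ⟨hZ', hι', ?_⟩
      intro y
      rw [← hexact y]
      constructor
      · intro hy; apply Subtype.ext; exact hy
      · intro hy; exact congrArg Subtype.val hy
  intro i hi
  have := key (m - i) (by omega)
  have e : m - (m - i) = i := by omega
  rw [e] at this
  exact this

include hd in
theorem chain (m : ℕ) (hflat : ∀ i, i ≤ m + 1 → Module.Flat A (X (i + 1)))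
    (hinj : Function.Injective ((d 0).lTensor k))
    (hex : ∀ i, i ≤ m → Function.Exact ((d i).lTensor k) ((d (i + 1)).lTensor k)) :
    Module.Flat A (X 0) ∧ Module.Flat A (X (m + 1 + 1) ⧸ LinearMap.range (d (m + 1))) := by
  obtain ⟨htop, hall⟩ := chain_aux A X d hd m hflat hex
  refine ⟨?_, htop⟩
  obtain ⟨hZ, hι, hexact⟩ := hall 0 (Nat.zero_le _)
  let Z : Submodule A (X (0 + 1)) := LinearMap.ker (d (0 + 1))
  let g : X 0 →ₗ[A] Z := (d 0).codRestrict Z (fun x => by
    have := congrArg (fun φ => φ x) (hd 0)
    simpa [Z] using this)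
  have hιg : Z.subtype ∘ₗ g = d 0 := LinearMap.subtype_comp_codRestrict _ _ _
  have hgsurj : Surjective g := by
    rintro ⟨y, hy⟩
    obtain ⟨x, hx⟩ := (hexact y).mp hy
    exact ⟨x, Subtype.ext hx⟩
  have hginj' : Injective (g.lTensor k) := by
    intro a b hab
    apply hinj
    rw [← hιg, LinearMap.lTensor_comp, LinearMap.comp_apply, LinearMap.comp_apply, hab]
  -- kernel of g
  let K : Submodule A (X 0) := LinearMap.ker g
  have hKinj : Injective (K.subtype.lTensor k) :=
    lTensor_injective_of_flat_coker K.subtype g Subtype.val_injective hgsurj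
      (LinearMap.exact_subtype_ker_map g)
  have hKzero : Subsingleton (k ⊗[A] K) := by
    refine subsingleton_of_forall_eq 0 fun z => ?_
    apply hKinj
    apply hginj'
    rw [← LinearMap.comp_apply, ← LinearMap.lTensor_comp]
    have : g ∘ₗ K.subtype = 0 := by
      apply LinearMap.ext; rintro ⟨x, hx⟩; exact hx
    rw [this, LinearMap.lTensor_zero, LinearMap.zero_apply, map_zero, map_zero]
  have hK : Subsingleton K := subsingleton_of_subsingleton_tensor (isNilpotent_maximalIdeal A) hKzero
  have hginj : Injective g := by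
    rw [← LinearMap.ker_eq_bot]
    exact (Submodule.subsingleton_iff_eq_bot).mp hK
  exact Module.Flat.of_linearEquiv (LinearEquiv.ofBijective g ⟨hginj, hgsurj⟩)

end Chain

end Helper5.ArtLoc
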