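import Groth.Agent.Lib.Helper5.ArtLoc.Chain
open CategoryTheory MonoidalCategory
universe u

namespace Helper5.ArtLoc

theorem s15133
    (A : Type u) [CommRing A] [IsLocalRing A] [IsArtinianRing A] (n : ℕ) (hn : 0 < n)
    (C : CochainComplex (ModuleCat.{u} A) ℕ)
    (hflat : ∀ i, i ≤ n → Module.Flat A (C.X (i + 1)))
    (hred : ∀ j, j ≤ n →
      (((MonoidalCategory.tensorLeft (ModuleCat.of A (IsLocalRing.ResidueField A))).mapHomologicalComplex
        (ComplexShape.up ℕ)).obj C).ExactAt j) :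
    Module.Flat A (C.X 0) ∧ Module.Flat A (C.X (n + 1) ⧸ LinearMap.range (C.d n (n + 1)).hom) := by
  obtain ⟨m, rfl⟩ : ∃ m, n = m + 1 := Nat.exists_eq_succ_of_ne_zero hn.ne'
  set K := ((MonoidalCategory.tensorLeft (ModuleCat.of A (IsLocalRing.ResidueField A))).mapHomologicalComplex
        (ComplexShape.up ℕ)).obj C with hK
  have hd : ∀ j, (C.d (j + 1) (j + 1 + 1)).hom ∘ₗ (C.d j (j + 1)).hom = 0 := by
    intro j
    rw [← ModuleCat.hom_comp, C.d_comp_d]
    rfl
  have hdK : ∀ i, (K.d i (i + 1)).hom = (C.d i (i + 1)).hom.lTensor (IsLocalRing.ResidueField A) :=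
    fun i => rfl
  refine chain A (fun j => C.X j) (fun j => (C.d j (j + 1)).hom) hd m hflat ?_ ?_
  · -- injectivity at 0
    have h0 := hred 0 (Nat.zero_le _)
    rw [K.exactAt_iff' 0 0 1 CochainComplex.prev_nat_zero (by simp)] at h0
    have hf0 : (K.sc' 0 0 1).f = 0 := K.shape _ _ (by simp)
    rw [ShortComplex.exact_iff_mono _ hf0] at h0
    have := (ModuleCat.mono_iff_injective _).mp h0
    rw [← hdK 0]
    exact this
  · intro i hi
    have h1 := hred (i + 1) (by omega)
    rw [K.exactAt_iff' i (i + 1) (i + 1 + 1) (CochainComplex.prev_nat_succ i) (by simp)] at h1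
    rw [ShortComplex.moduleCat_exact_iff_range_eq_ker] at h1
    have h2 : LinearMap.range (K.d i (i + 1)).hom = LinearMap.ker (K.d (i + 1) (i + 1 + 1)).hom := h1
    rw [← hdK i, ← hdK (i + 1)]
    intro y
    have : y ∈ LinearMap.ker (K.d (i + 1) (i + 1 + 1)).hom ↔ y ∈ LinearMap.range (K.d i (i + 1)).hom := by
      rw [h2]
    exact this

end Helper5.ArtLoc
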