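import Groth.Agent.Lib.Helper5.ArtLoc.Basic

namespace Helper5.ArtLoc
open TensorProduct IsLocalRing Function

universe u v

section
variable {R : Type u} [CommRing R] [IsLocalRing R]
  {M : Type v} [AddCommGroup M] [Module R M] {M' : Type*} [AddCommGroup M'] [Module R M']

local notation "𝔪" => maximalIdeal R
local notation "k" => ResidueField R

/-- For a proper ideal `J` and nilpotent `𝔪` there is `s ∉ J` with `𝔪 s ⊆ J`. -/
lemma exists_socle_mod (hm : IsNilpotent 𝔪) (J : Ideal R) (hJ : J ≠ ⊤) :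
    ∃ s : R, s ∉ J ∧ ∀ a ∈ 𝔪, a * s ∈ J := by
  obtain ⟨n, hn⟩ := hm
  -- least t with 𝔪^t ≤ J
  have hex : ∃ t, 𝔪 ^ t ≤ J := ⟨n, by rw [hn]; exact bot_le⟩
  classical
  let t := Nat.find hex
  have ht : 𝔪 ^ t ≤ J := Nat.find_spec hex
  have ht0 : t ≠ 0 := by
    intro h0
    rw [h0, pow_zero, Ideal.one_eq_top, top_le_iff] at ht
    exact hJ ht
  obtain ⟨t', ht'⟩ := Nat.exists_eq_succ_of_ne_zero ht0
  have hnot : ¬ 𝔪 ^ t' ≤ J := Nat.find_min hex (by omega)
  obtain ⟨s, hs, hsJ⟩ := Set.not_subset.mp hnot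
  refine ⟨s, hsJ, fun a ha => ht ?_⟩
  rw [ht', pow_succ']
  exact Ideal.mul_mem_mul ha hs

/-- Flatness: `s • x ∈ J • ⊤` with `s ∉ J` forces `x ∈ 𝔪 • ⊤`. -/
lemma mem_smul_top_of_smul_mem [Module.Flat R M] (J : Ideal R) (s : R) (hs : s ∉ J) (x : M)
    (h : s • x ∈ J • (⊤ : Submodule R M)) : x ∈ 𝔪 • (⊤ : Submodule R M) := by
  -- write s • x = ∑ j_i • y_i
  obtain ⟨c, hc⟩ := (Submodule.mem_ideal_smul_span_iff_exists_sum J (fun m : M => m) (s • x)).mp
    (by rwa [show Set.range (fun m : M => m) = Set.univ from Set.range_id, Submodule.span_univ])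
  obtain ⟨hcJ, hsum⟩ := hc
  -- relation: s • x - ∑ c_i • i = 0
  classical
  let ι := Option c.support
  let fcoef : ι → R := fun o => Option.elim o s (fun i => - c i)
  let xs : ι → M := fun o => Option.elim o x (fun i => (i : M))
  have hrel : ∑ o, fcoef o • xs o = 0 := by
    rw [Fintype.sum_option]
    simp only [fcoef, xs, Option.elim_none, Option.elim_some, neg_smul, Finset.sum_neg_distrib]
    rw [← hsum, Finsupp.sum, Finset.sum_coe_sort c.support (fun a => c a • a), add_neg_cancel]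
  obtain ⟨k', a, y, hy, ha⟩ := Module.Flat.isTrivialRelation_of_sum_smul_eq_zero hrel
  have hx : x = ∑ j, a none j • y j := hy none
  rw [hx]
  refine Submodule.sum_mem _ fun j _ => Submodule.smul_mem_smul ?_ Submodule.mem_top
  rw [IsLocalRing.mem_maximalIdeal, mem_nonunits_iff]
  intro hu
  apply hs
  have h1 := ha j
  rw [Fintype.sum_option] at h1
  simp only [fcoef, Option.elim_none, Option.elim_some, neg_mul, Finset.sum_neg_distrib] at h1
  have h2 : s * a none j ∈ J := by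
    rw [add_neg_eq_zero] at h1
    rw [h1]
    exact Ideal.sum_mem _ fun i _ => Ideal.mul_mem_right _ _ (hcJ i)
  have h3 : s = (s * a none j) * ↑(hu.unit⁻¹) := by
    rw [mul_assoc, IsUnit.mul_val_inv, mul_one]
  rw [h3]
  exact Ideal.mul_mem_right _ _ h2

/-- `Inj_J`: the induced map `M/JM → M'/JM'` is injective. -/
def InjMod (J : Ideal R) (φ : M →ₗ[R] M') : Prop :=
  ∀ x, φ x ∈ J • (⊤ : Submodule R M') → x ∈ J • (⊤ : Submodule R M)

lemma injMod_bot_iff (φ : M →ₗ[R] M') : InjMod ⊥ φ ↔ Injective φ := by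
  simp only [InjMod, Submodule.bot_smul, Submodule.mem_bot]
  exact (injective_iff_map_eq_zero φ).symm

lemma injMod_maximalIdeal_iff (φ : M →ₗ[R] M') : InjMod 𝔪 φ ↔ Injective (φ.lTensor k) := by
  constructor
  · intro h
    rw [injective_iff_map_eq_zero]
    intro z hz
    obtain ⟨x, rfl⟩ := exists_one_tmul z
    rw [LinearMap.lTensor_tmul] at hz
    exact tmul_eq_zero_of_mem_smul_top x (h x (mem_smul_top_of_tmul_eq_zero _ hz))
  · intro h x hx
    apply mem_smul_top_of_tmul_eq_zero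
    apply h
    rw [LinearMap.lTensor_tmul, map_zero]
    exact tmul_eq_zero_of_mem_smul_top _ hx

/-- `Inj_J ⇒ Inj_𝔪` for proper `J` when the source is flat. -/
theorem injMod_maximalIdeal_of_injMod (hm : IsNilpotent 𝔪) [Module.Flat R M] (J : Ideal R) (hJ : J ≠ ⊤)
    (φ : M →ₗ[R] M') (h : InjMod J φ) : InjMod 𝔪 φ := by
  obtain ⟨s, hs, hms⟩ := exists_socle_mod hm J hJ
  intro x hx
  apply mem_smul_top_of_smul_mem J s hs
  apply h
  rw [map_smul]
  -- s • (𝔪 • ⊤) ≤ J • ⊤
  refine Submodule.smul_induction_on hx ?_ ?_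
  · intro a ha y _
    rw [smul_smul, mul_comm]
    exact Submodule.smul_mem_smul (hms a ha) Submodule.mem_top
  · intro y z hy hz
    rw [smul_add]; exact Submodule.add_mem _ hy hz

/-- `Inj_𝔪 ⇒ Inj_J` when the target is flat (the map is then split injective). -/
theorem injMod_of_injMod_maximalIdeal (hm : IsNilpotent 𝔪) [Module.Flat R M'] (J : Ideal R)
    (φ : M →ₗ[R] M') (h : InjMod 𝔪 φ) : InjMod J φ := by
  obtain ⟨r, hr⟩ := exists_retraction_of_lTensor_injective hm φ ((injMod_maximalIdeal_iff φ).mp h)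
  intro x hx
  have : x = r (φ x) := (congrArg (fun ψ => ψ x) hr).symm
  rw [this]
  have h2 : Submodule.map r (J • (⊤ : Submodule R M')) ≤ J • ⊤ := by
    rw [Submodule.map_smul'']
    exact Submodule.smul_mono le_rfl le_top
  exact h2 ⟨_, hx, rfl⟩

theorem injective_iff_injMod (hm : IsNilpotent 𝔪) [Module.Flat R M] [Module.Flat R M'] (J : Ideal R)
    (hJ : J ≠ ⊤) (φ : M →ₗ[R] M') : Injective φ ↔ InjMod J φ := by
  rw [← injMod_bot_iff]
  constructor
  · intro h
    exact injMod_of_injMod_maximalIdeal hm J φ (injMod_maximalIdeal_of_injMod hm ⊥ bot_ne_top φ h)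
  · intro h
    exact injMod_of_injMod_maximalIdeal hm ⊥ φ (injMod_maximalIdeal_of_injMod hm J hJ φ h)

end

end Helper5.ArtLoc
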