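import Groth.Agent.Lib.Helper5.ArtLoc.InjMod

namespace Helper5.ArtLoc
open TensorProduct IsLocalRing Function

universe u v

theorem s13132
    {A' : Type u} [CommRing A'] [IsArtinianRing A'] [IsLocalRing A'] (I : Ideal A') (hI : I ≠ ⊤)
    {S' : Type v} [CommRing S'] [Algebra A' S'] [Module.Flat A' S'] (f' : S') :
    (f' ∈ nonZeroDivisors S' ↔
      Ideal.Quotient.mk (I.map (algebraMap A' S')) f' ∈ nonZeroDivisors (S' ⧸ I.map (algebraMap A' S'))) ∧
    (f' ∈ nonZeroDivisors S' → Module.Flat A' (S' ⧸ Ideal.span {f'})) := by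
  have hm := isNilpotent_maximalIdeal A'
  let φ : S' →ₗ[A'] S' := LinearMap.mulLeft A' f'
  have h1 : f' ∈ nonZeroDivisors S' ↔ Injective φ := by
    rw [mem_nonZeroDivisors_iff_right, injective_iff_map_eq_zero]
    constructor
    · intro h x hx; exact h x (by rw [mul_comm]; exact hx)
    · intro h x hx; exact h x (by change f' * x = 0; rw [mul_comm]; exact hx)
  have h2 : InjMod I φ ↔
      Ideal.Quotient.mk (I.map (algebraMap A' S')) f' ∈ nonZeroDivisors (S' ⧸ I.map (algebraMap A' S')) := by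
    rw [mem_nonZeroDivisors_iff_right]
    have hmem : ∀ y : S', y ∈ I • (⊤ : Submodule A' S') ↔ y ∈ I.map (algebraMap A' S') := by
      intro y; rw [Ideal.smul_top_eq_map]; rfl
    constructor
    · intro h x hx
      obtain ⟨x, rfl⟩ := Ideal.Quotient.mk_surjective x
      rw [← map_mul, Ideal.Quotient.eq_zero_iff_mem] at hx
      rw [Ideal.Quotient.eq_zero_iff_mem, ← hmem]
      apply h
      rw [hmem]; change f' * x ∈ _; rw [mul_comm]; exact hx
    · intro h x hx
      rw [hmem] at hx ⊢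
      change f' * x ∈ _ at hx
      rw [← Ideal.Quotient.eq_zero_iff_mem]
      apply h
      rw [← map_mul, Ideal.Quotient.eq_zero_iff_mem, mul_comm]; exact hx
  refine ⟨by rw [h1, ← h2]; exact injective_iff_injMod hm I hI φ, ?_⟩
  intro hf
  have hinj : Injective φ := h1.mp hf
  have hk : Injective (φ.lTensor (ResidueField A')) :=
    (injMod_maximalIdeal_iff φ).mp
      (injMod_maximalIdeal_of_injMod hm ⊥ bot_ne_top φ ((injMod_bot_iff φ).mpr hinj))
  let g : S' →ₗ[A'] S' ⧸ Ideal.span {f'} := (Ideal.Quotient.mkₐ A' (Ideal.span {f'})).toLinearMap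
  have hg : Surjective g := Ideal.Quotient.mk_surjective
  have hex : Function.Exact φ g := by
    intro y
    change Ideal.Quotient.mk _ y = 0 ↔ _
    rw [Ideal.Quotient.eq_zero_iff_mem, Ideal.mem_span_singleton']
    constructor
    · rintro ⟨a, rfl⟩; exact ⟨a, mul_comm _ _⟩
    · rintro ⟨a, rfl⟩; exact ⟨a, mul_comm _ _⟩
  exact (s15129 A' S' S' (S' ⧸ Ideal.span {f'}) φ g hinj hg hex).1 hk

end Helper5.ArtLoc
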